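import Cfsg.Agent.H30.HTS.Tool
import Cfsg.Agent.H936.List12
import Cfsg.Agent.S2119
import Cfsg.Agent.H753.ResCard

/-!
# S3540, quasisimple rows, degree at most `12`: the alternating candidates
-/

set_option autoImplicit false

universe u

namespace Cfsg.Agent.H348.HT

open Cfsg Cfsg.Agent.H337.HT Cfsg.Agent.H30.HTS

theorem card_alt (m : ℕ) (hm : 2 ≤ m) {N : ℕ} (h : m.factorial = 2 * N) :
    Nat.card (alternatingGroup (Fin m)) = N := by
  have : Nontrivial (Fin m) := Fin.nontrivial_iff_two_le.2 hm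
  have h1 := nat_card_alternatingGroup (α := Fin m)
  rw [h1, Nat.card_eq_fintype_card, Fintype.card_fin, h]
  exact Nat.mul_div_cancel_left _ (by norm_num)

theorem card_aut_alt (m : ℕ) (hm : 4 ≤ m) (h6 : m ≠ 6) :
    Nat.card (MulAut (alternatingGroup (Fin m))) = m.factorial := by
  rw [← Nat.card_congr (Equiv.ofBijective _ (S2119.result m hm h6)), Nat.card_perm, Nat.card_fin]

/-- the search for `A_m` -/
theorem alt_at (m : ℕ) (hm : 4 ≤ m) (h6 : m ≠ 6) {n N : ℕ} (ns : List ℕ) (q₀ fq : ℕ) (hN : m.factorial = 2 * N)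
    (hN0 : 0 < N) (h2 : 2 ≤ q₀) (hns : ns.all (fun n => Nat.ble 2 n) = true)
    (h1 : (List.range q₀).all (fun q => Nat.ble q 1 || Nat.ble 2 (Nat.gcd q N)) = true)
    (h : ns.all (fun n => loopQ N (2 * N) n fq q₀) = true) (hn : n ∈ ns) : Dead n (alternatingGroup (Fin m)) :=
  dead_at ns q₀ fq (card_alt m (by omega) hN) (by rw [card_aut_alt m hm h6, hN]) (by omega) h2 hns h1 h hn

theorem dead_a5 {n : ℕ} (hn : n ∈ [5, 7, 8, 9, 10, 11, 12]) : Dead n (alternatingGroup (Fin 5)) :=
  alt_at 5 (by norm_num) (by norm_num) (N := 60) _ 7 13 (by decide) (by norm_num) (by norm_num) (by decide)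
    (by decide +kernel) (by decide +kernel) hn

theorem dead_a6 {n : ℕ} (hn : n ∈ [5, 7, 8, 9, 10, 11, 12]) : Dead n (alternatingGroup (Fin 6)) :=
  dead_at _ 7 95 (card_alt 6 (by norm_num) (N := 360) (by decide)) H753.ResCard.card_mulAut_A6 (by norm_num)
    (by norm_num) (by decide) (by decide +kernel) (by decide +kernel) hn

theorem dead_a7 {n : ℕ} (hn : n ∈ [5, 7, 8, 9, 10, 11, 12]) : Dead n (alternatingGroup (Fin 7)) :=
  alt_at 7 (by norm_num) (by norm_num) (N := 2520) _ 11 223 (by decide) (by norm_num) (by norm_num) (by decide)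
    (by decide +kernel) (by decide +kernel) hn

theorem dead_a8 {n : ℕ} (hn : n ∈ [5, 7, 8, 9, 10, 11, 12]) : Dead n (alternatingGroup (Fin 8)) :=
  alt_at 8 (by norm_num) (by norm_num) (N := 20160) _ 11 923 (by decide) (by norm_num) (by norm_num) (by decide)
    (by decide +kernel) (by decide +kernel) hn

theorem dead_a9 {n : ℕ} (hn : n ∈ [5, 7, 8, 9, 10, 11, 12]) : Dead n (alternatingGroup (Fin 9)) :=
  alt_at 9 (by norm_num) (by norm_num) (N := 181440) _ 11 4027 (by decide) (by norm_num) (by norm_num) (by decide)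
    (by decide +kernel) (by decide +kernel) hn

theorem dead_a10 {n : ℕ} (hn : n ∈ [8, 9, 10, 11, 12]) : Dead n (alternatingGroup (Fin 10)) :=
  alt_at 10 (by norm_num) (by norm_num) (N := 1814400) _ 11 126 (by decide) (by norm_num) (by norm_num) (by decide)
    (by decide +kernel) (by decide +kernel) hn

theorem dead_a11 {n : ℕ} (hn : n ∈ [8, 9, 10, 11, 12]) : Dead n (alternatingGroup (Fin 11)) :=
  alt_at 11 (by norm_num) (by norm_num) (N := 19958400) _ 13 292 (by decide) (by norm_num) (by norm_num) (by decide)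
    (by decide +kernel) (by decide +kernel) hn

theorem dead_a12 {n : ℕ} (hn : n ∈ [10, 11, 12]) : Dead n (alternatingGroup (Fin 12)) :=
  alt_at 12 (by norm_num) (by norm_num) (N := 239500800) _ 13 123 (by decide) (by norm_num) (by norm_num) (by decide)
    (by decide +kernel) (by decide +kernel) hn

theorem dead_a13 {n : ℕ} (hn : n ∈ [11, 12]) : Dead n (alternatingGroup (Fin 13)) :=
  alt_at 13 (by norm_num) (by norm_num) (N := 3113510400) _ 17 123 (by decide) (by norm_num) (by norm_num)
    (by decide) (by decide +kernel) (by decide +kernel) hn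

theorem dead_a14 {n : ℕ} (hn : n ∈ [12]) : Dead n (alternatingGroup (Fin 14)) :=
  alt_at 14 (by norm_num) (by norm_num) (N := 43589145600) _ 17 127 (by decide) (by norm_num) (by norm_num)
    (by decide) (by decide +kernel) (by decide +kernel) hn

/-- **the alternating candidates** -/
theorem alt_dead {T : Type u} [Group T] {n p : ℕ} (h : H936.List12.AltC p n T) (h5 : 5 ≤ n) (h6 : n ≠ 6)
    (h12 : n ≤ 12) (hp : ¬ p ∣ Nat.card T) : Dead n T := by
  obtain ⟨m, hm5, hm14, h1, h2, h3, ⟨e⟩⟩ := h
  have hcard : Nat.card T = Nat.card (alternatingGroup (Fin m)) := Nat.card_congr e.toEquiv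
  have hp5 : p ≠ 5 := by
    rintro rfl
    apply hp
    rw [hcard]
    have : Nontrivial (Fin m) := Fin.nontrivial_iff_two_le.2 (by omega)
    have h4 : 5 ∣ m.factorial := Nat.dvd_factorial (by norm_num) hm5
    have h5' := two_mul_nat_card_alternatingGroup (α := Fin m)
    rw [Nat.card_perm, Nat.card_fin] at h5'
    rw [← h5'] at h4
    exact (by norm_num : Nat.Coprime 5 2).dvd_of_dvd_mul_left h4
  have h1' := h1 hp5
  have h2' := h2 hp5
  refine Dead.congr e.symm ?_
  have hns : n = 5 ∨ n = 7 ∨ n = 8 ∨ n = 9 ∨ n = 10 ∨ n = 11 ∨ n = 12 := by omega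
  interval_cases m
  · exact dead_a5 (by simp; omega)
  · exact dead_a6 (by simp; omega)
  · exact dead_a7 (by simp; omega)
  · exact dead_a8 (by simp; omega)
  · exact dead_a9 (by simp; omega)
  · exact dead_a10 (by simp; omega)
  · exact dead_a11 (by simp; omega)
  · exact dead_a12 (by simp; omega)
  · exact dead_a13 (by simp; omega)
  · exact dead_a14 (by simp; omega)

end Cfsg.Agent.H348.HT
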