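import Mathlib

/-!
# S3540, quasisimple rows: `PSL`, the inequalities
-/

set_option autoImplicit false

namespace Cfsg.Agent.H348.HT

theorem two_mul_le_two_pow {f : ℕ} (hf : 1 ≤ f) : 2 * f ≤ 2 ^ f := by
  induction f, hf using Nat.le_induction with
  | base => norm_num
  | succ k hk ih => rw [pow_succ]; omega

theorem sq_le_two_pow {f : ℕ} (hf : 4 ≤ f) : f ^ 2 ≤ 2 ^ f := by
  induction f, hf using Nat.le_induction with
  | base => norm_num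
  | succ k hk ih => rw [pow_succ 2 k]; nlinarith

/-- `2 f ≤ p ^ f` -/
theorem two_mul_le_pow {p f : ℕ} (hp : 2 ≤ p) (hf : 1 ≤ f) : 2 * f ≤ p ^ f :=
  (two_mul_le_two_pow hf).trans (Nat.pow_le_pow_left hp f)

/-- `f ^ 2 ≤ p ^ f` if `p ^ f` is at least `9` -/
theorem sq_le_pow {p f : ℕ} (hp : 2 ≤ p) (h : 9 ≤ p ^ f) : f ^ 2 ≤ p ^ f := by
  by_cases h4 : 4 ≤ f
  · exact (sq_le_two_pow h4).trans (Nat.pow_le_pow_left hp f)
  · have : f ^ 2 ≤ 9 := by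
      have : f ≤ 3 := by omega
      nlinarith
    omega

theorem pow7 {k : ℕ} (hk : 18 ≤ k) : (2 * k + 2) ^ 7 ≤ 2 * 5 ^ (k - 2) := by
  induction k, hk using Nat.le_induction with
  | base => norm_num
  | succ k hk ih =>
    have h1 : (19 * (2 * (k + 1) + 2)) ^ 7 ≤ (20 * (2 * k + 2)) ^ 7 := Nat.pow_le_pow_left (by omega) 7
    rw [mul_pow, mul_pow] at h1
    have h2 : 5 ^ (k + 1 - 2) = 5 * 5 ^ (k - 2) := by rw [← pow_succ']; congr 1; omega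
    rw [h2]
    have h3 : 19 ^ 7 * (2 * (k + 1) + 2) ^ 7 ≤ 19 ^ 7 * (2 * (5 * 5 ^ (k - 2))) := by
      calc 19 ^ 7 * (2 * (k + 1) + 2) ^ 7 ≤ 20 ^ 7 * (2 * k + 2) ^ 7 := h1
        _ ≤ 20 ^ 7 * (2 * 5 ^ (k - 2)) := Nat.mul_le_mul_left _ ih
        _ ≤ 19 ^ 7 * (2 * (5 * 5 ^ (k - 2))) := by
          generalize 5 ^ (k - 2) = x
          norm_num
          omega
    exact Nat.le_of_mul_le_mul_left h3 (by norm_num)

/-- `PSL₂(s)`, `s ≥ 37` -/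
theorem ineq_two {s f n : ℕ} (hs : 37 ≤ s) (hf : f ^ 2 ≤ s) (hn : (s - 1) / 2 ≤ n) :
    (f * (s * (s ^ 2 - 1))) ^ 2 ≤ 2 * 5 ^ (n - 2) := by
  have h1 : (f * (s * (s ^ 2 - 1))) ^ 2 ≤ s ^ 7 := by
    calc (f * (s * (s ^ 2 - 1))) ^ 2 = f ^ 2 * (s * (s ^ 2 - 1)) ^ 2 := by ring
      _ ≤ s * (s * s ^ 2) ^ 2 :=
        Nat.mul_le_mul hf (Nat.pow_le_pow_left (Nat.mul_le_mul_left _ (Nat.sub_le _ _)) 2)
      _ = s ^ 7 := by ring
  have h2 : s ≤ 2 * ((s - 1) / 2) + 2 := by omega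
  have h3 : s ^ 7 ≤ (2 * ((s - 1) / 2) + 2) ^ 7 := Nat.pow_le_pow_left h2 7
  have h4 := pow7 (k := (s - 1) / 2) (by omega)
  have h5 : 5 ^ ((s - 1) / 2 - 2) ≤ 5 ^ (n - 2) := Nat.pow_le_pow_right (by norm_num) (by omega)
  omega

theorem pow4_le {s : ℕ} (hs : 5 ≤ s) : s ^ 4 ≤ 5 ^ (s - 1) := by
  induction s, hs using Nat.le_induction with
  | base => norm_num
  | succ k hk ih =>
    have h1 : (5 * (k + 1)) ^ 4 ≤ (6 * k) ^ 4 := Nat.pow_le_pow_left (by omega) 4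
    rw [mul_pow, mul_pow] at h1
    have h2 : 5 ^ (k + 1 - 1) = 5 * 5 ^ (k - 1) := by rw [← pow_succ']; congr 1; omega
    rw [h2]
    norm_num at h1
    omega

theorem sq_add_le {j : ℕ} : (j + 3) ^ 2 + 1 ≤ 10 * 5 ^ j := by
  induction j with
  | zero => norm_num
  | succ j ih => rw [pow_succ 5]; nlinarith

/-- `s ≥ 5`, `m ≥ 3` -/
theorem exp_le {s m : ℕ} (hs : 5 ≤ s) (hm : 3 ≤ m) : (s - 1) * (m ^ 2 + 1) ≤ 2 * (s ^ (m - 1) - 3) := by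
  obtain ⟨j, rfl⟩ := Nat.exists_eq_add_of_le' hm
  have h1 : s ^ (j + 3 - 1) = s ^ 2 * s ^ j := by rw [← pow_add]; congr 1; omega
  rw [h1]
  have h2 : 5 ^ j ≤ s ^ j := Nat.pow_le_pow_left hs j
  have h3 := sq_add_le (j := j)
  have h4 : 1 ≤ 5 ^ j := Nat.one_le_pow _ _ (by norm_num)
  obtain ⟨t, rfl⟩ := Nat.exists_eq_add_of_le' hs
  have h5 : (t + 5 - 1) * ((j + 3) ^ 2 + 1) ≤ (t + 4) * (10 * 5 ^ j) := Nat.mul_le_mul (by omega) h3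
  have h6 : (t + 5) ^ 2 * 5 ^ j ≤ (t + 5) ^ 2 * (t + 5) ^ j := Nat.mul_le_mul_left _ h2
  have h7 : (t + 4) * (10 * 5 ^ j) + 6 ≤ 2 * ((t + 5) ^ 2 * 5 ^ j) := by
    have h8 : (t + 5) ^ 2 * 5 ^ j = t ^ 2 * 5 ^ j + 10 * (t * 5 ^ j) + 25 * 5 ^ j := by ring
    have h9 : (t + 4) * (10 * 5 ^ j) = 10 * (t * 5 ^ j) + 40 * 5 ^ j := by ring
    rw [h8, h9]
    have h10 : 0 ≤ t ^ 2 * 5 ^ j := Nat.zero_le _
    omega
  omega

/-- `m ≥ 4`, `s = 4` -/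
theorem exp_four {j : ℕ} : 2 * (j + 4) ^ 2 + 2 + 3 ≤ 4 ^ (j + 3) := by
  induction j with
  | zero => norm_num
  | succ j ih => rw [pow_succ 4 (j + 1 + 2)]; nlinarith

/-- `m ≥ 5`, `s = 3` -/
theorem exp_three {j : ℕ} : 2 * (j + 5) ^ 2 + 2 + 3 ≤ 3 ^ (j + 4) := by
  induction j with
  | zero => norm_num
  | succ j ih => rw [pow_succ 3 (j + 1 + 3)]; nlinarith

/-- `m ≥ 7`, `s = 2` -/
theorem exp_two {j : ℕ} : (j + 7) ^ 2 + 1 + 3 ≤ 2 ^ (j + 6) := by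
  induction j with
  | zero => norm_num
  | succ j ih => rw [pow_succ 2 (j + 1 + 5)]; nlinarith

theorem pow_ineq {s m : ℕ} (hs : 2 ≤ s) (hm : 3 ≤ m)
    (h : (m, s) ∉ ({(3, 2), (3, 3), (3, 4), (4, 2), (5, 2), (6, 2)} : Set (ℕ × ℕ))) :
    s ^ (2 * m ^ 2 + 2) ≤ 2 * 5 ^ (s ^ (m - 1) - 3) := by
  simp only [Set.mem_insert_iff, Set.mem_singleton_iff, Prod.mk.injEq, not_or] at h
  by_cases h5 : 5 ≤ s
  · have h1 := pow4_le h5
    have h2 := exp_le h5 hm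
    have h3 : (s ^ (2 * m ^ 2 + 2)) ^ 2 ≤ (5 ^ (s ^ (m - 1) - 3)) ^ 2 := by
      calc (s ^ (2 * m ^ 2 + 2)) ^ 2 = (s ^ 4) ^ (m ^ 2 + 1) := by rw [← pow_mul, ← pow_mul]; congr 1; ring
        _ ≤ (5 ^ (s - 1)) ^ (m ^ 2 + 1) := Nat.pow_le_pow_left h1 _
        _ = 5 ^ ((s - 1) * (m ^ 2 + 1)) := by rw [← pow_mul]
        _ ≤ 5 ^ (2 * (s ^ (m - 1) - 3)) := Nat.pow_le_pow_right (by norm_num) h2
        _ = _ := by rw [← pow_mul, mul_comm]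
    have h4 := (Nat.pow_le_pow_iff_left (two_ne_zero)).1 h3
    omega
  · have h4 : s = 2 ∨ s = 3 ∨ s = 4 := by omega
    rcases h4 with rfl | rfl | rfl
    · have hm7 : 7 ≤ m := by omega
      obtain ⟨j, rfl⟩ := Nat.exists_eq_add_of_le' hm7
      have h1 := exp_two (j := j)
      calc 2 ^ (2 * (j + 7) ^ 2 + 2) = (2 ^ 2) ^ ((j + 7) ^ 2 + 1) := by rw [← pow_mul]; congr 1
        _ ≤ 5 ^ ((j + 7) ^ 2 + 1) := Nat.pow_le_pow_left (by norm_num) _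
        _ ≤ 5 ^ (2 ^ (j + 7 - 1) - 3) := Nat.pow_le_pow_right (by norm_num) (by
          have : j + 7 - 1 = j + 6 := by omega
          rw [this]; omega)
        _ ≤ _ := by omega
    · by_cases h4 : m = 4
      · subst h4; norm_num
      · have hm5 : 5 ≤ m := by omega
        obtain ⟨j, rfl⟩ := Nat.exists_eq_add_of_le' hm5
        have h1 := exp_three (j := j)
        calc 3 ^ (2 * (j + 5) ^ 2 + 2) ≤ 5 ^ (2 * (j + 5) ^ 2 + 2) := Nat.pow_le_pow_left (by norm_num) _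
          _ ≤ 5 ^ (3 ^ (j + 5 - 1) - 3) := Nat.pow_le_pow_right (by norm_num) (by
            have : j + 5 - 1 = j + 4 := by omega
            rw [this]; omega)
          _ ≤ _ := by omega
    · have hm4 : 4 ≤ m := by omega
      obtain ⟨j, rfl⟩ := Nat.exists_eq_add_of_le' hm4
      have h1 := exp_four (j := j)
      calc 4 ^ (2 * (j + 4) ^ 2 + 2) ≤ 5 ^ (2 * (j + 4) ^ 2 + 2) := Nat.pow_le_pow_left (by norm_num) _
        _ ≤ 5 ^ (4 ^ (j + 4 - 1) - 3) := Nat.pow_le_pow_right (by norm_num) (by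
          have : j + 4 - 1 = j + 3 := by omega
          rw [this]; omega)
        _ ≤ _ := by omega

/-- `PSL_m(s)`, `m ≥ 3`, `A = 2 f |PGL|` -/
theorem ineq_three {s m f n A : ℕ} (hs : 2 ≤ s) (hm : 3 ≤ m) (hf : 2 * f ≤ s)
    (h : (m, s) ∉ ({(3, 2), (3, 3), (3, 4), (4, 2), (5, 2), (6, 2)} : Set (ℕ × ℕ)))
    (hA : A ≤ 2 * f * s ^ (m * m)) (hn : s ^ (m - 1) - 1 ≤ n) : A ^ 2 ≤ 2 * 5 ^ (n - 2) := by
  have h1 := pow_ineq hs hm h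
  have h2 : A ≤ s ^ (m ^ 2 + 1) := by
    calc A ≤ 2 * f * s ^ (m * m) := hA
      _ ≤ s * s ^ (m * m) := Nat.mul_le_mul_right _ hf
      _ = s ^ (m ^ 2 + 1) := by rw [← pow_succ']; congr 1; ring
  have h3 : A ^ 2 ≤ s ^ (2 * m ^ 2 + 2) := by
    calc A ^ 2 ≤ (s ^ (m ^ 2 + 1)) ^ 2 := Nat.pow_le_pow_left h2 2
      _ = _ := by rw [← pow_mul]; congr 1; ring
  have h4 : 5 ^ (s ^ (m - 1) - 3) ≤ 5 ^ (n - 2) := Nat.pow_le_pow_right (by norm_num) (by omega)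
  omega

end Cfsg.Agent.H348.HT
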