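import Cfsg.Agent.H337.HT.Num
import Cfsg.Agent.H912.MultChar
import Cfsg.Agent.H915.LD
import Cfsg.Agent.S0813
import Cfsg.Agent.S0243
import Cfsg.Agent.H348.HT.PslNum

/-!
# S3540, quasisimple rows: `PSL` in cross characteristic, degree at least `13`
-/

set_option autoImplicit false

universe u v

namespace Cfsg.Agent.H348.HT

open Cfsg Cfsg.Agent.H915.LD Cfsg.Agent.H337.HT Cfsg.Agent.H912.Bd Matrix

section

variable {K : Type} [Field K] [Fintype K]

theorem finite_psl (m : ℕ) : Finite (ProjectiveSpecialLinearGroup (Fin m) K) := by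
  unfold ProjectiveSpecialLinearGroup
  infer_instance

theorem prod_gl {q : ℕ} (n : ℕ) :
    ∏ i : Fin n, (q ^ n - q ^ (i : ℕ)) = q ^ (n * (n - 1) / 2) * ∏ i ∈ Finset.range n, (q ^ (i + 1) - 1) := by
  rw [Fin.prod_univ_eq_prod_range (fun i => q ^ n - q ^ i) n]
  have h1 : ∀ i ∈ Finset.range n, q ^ n - q ^ i = q ^ i * (q ^ (n - i) - 1) := by
    intro i hi
    rw [Finset.mem_range] at hi
    rw [Nat.mul_sub, ← pow_add, Nat.add_sub_cancel' hi.le, mul_one]
  rw [Finset.prod_congr rfl h1, Finset.prod_mul_distrib, Finset.prod_pow_eq_pow_sum, ← Finset.sum_range_id_mul_two]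
  congr 1
  · rw [Nat.mul_div_cancel _ (by norm_num)]
  · rw [← Finset.prod_range_reflect]
    refine Finset.prod_congr rfl fun i hi => ?_
    rw [Finset.mem_range] at hi
    congr 2
    omega

theorem card_psl {q : ℕ} (hF : Fintype.card K = q) {n : ℕ} (hn : 2 ≤ n) :
    Nat.gcd n (q - 1) * Nat.card (ProjectiveSpecialLinearGroup (Fin n) K) =
      q ^ (n * (n - 1) / 2) * ∏ i ∈ Finset.range (n - 1), (q ^ (i + 2) - 1) := by
  have h := S0243.result hF n hn
  have hq : 2 ≤ q := hF ▸ Fintype.one_lt_card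
  obtain ⟨m, rfl⟩ := Nat.exists_eq_add_of_le' hn
  rw [prod_gl, Finset.prod_range_succ', zero_add, pow_one, mul_left_comm, ← mul_assoc (q ^ _),
    mul_comm _ (q - 1)] at h
  exact Nat.eq_of_mul_eq_mul_left (show 0 < q - 1 by omega) h

theorem card_pgl {q : ℕ} (hF : Fintype.card K = q) {n : ℕ} (hn : 2 ≤ n) :
    Nat.card (ProjGenLinGroup (Fin n) K) =
      Nat.gcd n (q - 1) * Nat.card (ProjectiveSpecialLinearGroup (Fin n) K) := by
  have h := S0243.result hF n hn
  have hq : 2 ≤ q := hF ▸ Fintype.one_lt_card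
  have : Nonempty (Fin n) := ⟨⟨0, by omega⟩⟩
  have h1 := ClassicalGeometry.PSL2Basic.card_PGL_mul (Fin n) K
  rw [Matrix.card_GL_field, hF, ← h] at h1
  refine Nat.eq_of_mul_eq_mul_right (show 0 < q - 1 by omega) (h1.trans ?_)
  ring

/-- the crude bound -/
theorem card_pgl_le (F : Type*) [Field F] [Fintype F] {n : ℕ} (hn : 2 ≤ n) :
    Nat.card (ProjGenLinGroup (Fin n) F) ≤ Fintype.card F ^ (n * n) := by
  have hq : 2 ≤ Fintype.card F := Fintype.one_lt_card
  have : Nonempty (Fin n) := ⟨⟨0, by omega⟩⟩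
  have h1 := ClassicalGeometry.PSL2Basic.card_PGL_mul (Fin n) F
  have h2 : Nat.card (GL (Fin n) F) ≤ Nat.card (Matrix (Fin n) (Fin n) F) :=
    Nat.card_le_card_of_injective (fun g : GL (Fin n) F => (g : Matrix (Fin n) (Fin n) F)) Units.val_injective
  have h3 : Nat.card (Matrix (Fin n) (Fin n) F) = Fintype.card F ^ (n * n) := by
    show Nat.card (Fin n → Fin n → F) = _
    rw [Nat.card_fun, Nat.card_fun, Nat.card_eq_fintype_card, Nat.card_eq_fintype_card, Fintype.card_fin, ← pow_mul]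
  have h4 : Nat.card (ProjGenLinGroup (Fin n) F) ≤ Nat.card (ProjGenLinGroup (Fin n) F) * (Fintype.card F - 1) :=
    Nat.le_mul_of_pos_right _ (by omega)
  omega

/-- `|PSL_m(q)| = q^N (q+1) ((q-1)/gcd) ∏ …` -/
theorem card_psl_split {q : ℕ} (hF : Fintype.card K = q) {n : ℕ} (hn : 2 ≤ n) :
    Nat.card (ProjectiveSpecialLinearGroup (Fin n) K) =
      q ^ (n * (n - 1) / 2) * ((q + 1) * ((q - 1) / Nat.gcd n (q - 1)) *
        ∏ i ∈ Finset.range (n - 2), (q ^ (i + 3) - 1)) := by
  have h := card_psl hF hn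
  have hq : 2 ≤ q := hF ▸ Fintype.one_lt_card
  have hg : 0 < Nat.gcd n (q - 1) := Nat.gcd_pos_of_pos_left _ (by omega)
  refine Nat.eq_of_mul_eq_mul_left hg (h.trans ?_)
  have h1 : n - 1 = (n - 2) + 1 := by omega
  have h2 : q ^ (0 + 2) - 1 = (q + 1) * (Nat.gcd n (q - 1) * ((q - 1) / Nat.gcd n (q - 1))) := by
    rw [Nat.mul_div_cancel' (Nat.gcd_dvd_right _ _), zero_add]
    have := Nat.sq_sub_sq q 1
    rwa [one_pow] at this
  have h3 : ∏ i ∈ Finset.range (n - 1), (q ^ (i + 2) - 1) =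
      (∏ i ∈ Finset.range (n - 2), (q ^ (i + 3) - 1)) * (q ^ (0 + 2) - 1) := by
    conv_lhs => rw [h1]
    exact Finset.prod_range_succ' _ _
  rw [h3, h2]
  ring

/-- `6 ∣ |PSL_m(q)|` -/
theorem six_dvd_psl {n : ℕ} (hn : 2 ≤ n) (h2 : n = 2 → 4 ≤ Fintype.card K) :
    6 ∣ Nat.card (ProjectiveSpecialLinearGroup (Fin n) K) := by
  obtain ⟨q, hF⟩ : ∃ q, Fintype.card K = q := ⟨_, rfl⟩
  have hq : 2 ≤ q := hF ▸ Fintype.one_lt_card
  have hN : n * (n - 1) / 2 ≠ 0 := by
    have : 2 * 1 ≤ n * (n - 1) := Nat.mul_le_mul hn (by omega)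
    omega
  rw [card_psl_split hF hn]
  have hg : Nat.gcd n (q - 1) * ((q - 1) / Nat.gcd n (q - 1)) = q - 1 := Nat.mul_div_cancel' (Nat.gcd_dvd_right _ _)
  have two : 2 ∣ q ^ (n * (n - 1) / 2) * ((q + 1) * ((q - 1) / Nat.gcd n (q - 1)) *
        ∏ i ∈ Finset.range (n - 2), (q ^ (i + 3) - 1)) := by
    rcases Nat.even_or_odd q with he | ho
    · exact Dvd.dvd.mul_right (dvd_pow he.two_dvd hN) _
    · refine Dvd.dvd.mul_left (Dvd.dvd.mul_right (Dvd.dvd.mul_right ?_ _) _) _
      obtain ⟨k, rfl⟩ := ho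
      exact ⟨k + 1, by ring⟩
  have three : 3 ∣ q ^ (n * (n - 1) / 2) * ((q + 1) * ((q - 1) / Nat.gcd n (q - 1)) *
        ∏ i ∈ Finset.range (n - 2), (q ^ (i + 3) - 1)) := by
    have h3 : q % 3 = 0 ∨ q % 3 = 1 ∨ q % 3 = 2 := by omega
    rcases h3 with h3 | h3 | h3
    · exact Dvd.dvd.mul_right (dvd_pow (Nat.dvd_of_mod_eq_zero h3) hN) _
    · refine Dvd.dvd.mul_left ?_ _
      by_cases hn2 : n = 2
      · subst hn2
        refine Dvd.dvd.mul_right (Dvd.dvd.mul_left ?_ _) _
        have h4 : 3 ∣ Nat.gcd 2 (q - 1) * ((q - 1) / Nat.gcd 2 (q - 1)) := by rw [hg]; omega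
        exact (Nat.Coprime.dvd_mul_left
          (Nat.Coprime.coprime_dvd_right (Nat.gcd_dvd_left 2 (q - 1)) (by norm_num))).1 h4
      · refine Dvd.dvd.mul_left ?_ _
        refine (?_ : 3 ∣ q ^ (0 + 3) - 1).trans (Finset.dvd_prod_of_mem (fun i => q ^ (i + 3) - 1)
          (Finset.mem_range.2 (by omega : 0 < n - 2)))
        have h4 : q ^ (0 + 3) % 3 = 1 := by rw [Nat.pow_mod, h3]
        omega
    · refine Dvd.dvd.mul_left (Dvd.dvd.mul_right (Dvd.dvd.mul_right ?_ _) _) _
      omega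
  exact Nat.Coprime.mul_dvd_of_dvd_of_dvd (by norm_num) two three

theorem five_le {T : Type*} [Group T] (h : 6 ∣ Nat.card T) (q : ℕ) (hq : 2 ≤ q) (hc : q.Coprime (Nat.card T)) : 5 ≤ q := by
  have h1 : q.Coprime 6 := Nat.Coprime.coprime_dvd_right h hc
  by_contra hcon
  interval_cases q <;> revert h1 <;> decide

end

/-! ### Degree two -/

/-- the search for `PSL₂(s)`, `s = p ^ f` -/
def chk (s f : ℕ) : Bool :=
  loopN (s * (s ^ 2 - 1) / Nat.gcd 2 (s - 1)) (f * (s * (s ^ 2 - 1))) 5 60 60 (max 13 ((s - 1) / Nat.gcd 2 (s - 1))) &&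
  (List.range 5).all (fun q => Nat.ble q 1 || Nat.ble 2 (Nat.gcd q (s * (s ^ 2 - 1) / Nat.gcd 2 (s - 1))))

theorem chk4 : chk 4 2 = true := by decide
theorem chk5 : chk 5 1 = true := by decide
theorem chk7 : chk 7 1 = true := by decide
theorem chk8 : chk 8 3 = true := by decide
theorem chk9 : chk 9 2 = true := by decide
theorem chk11 : chk 11 1 = true := by decide
theorem chk13 : chk 13 1 = true := by decide
theorem chk16 : chk 16 4 = true := by decide
theorem chk17 : chk 17 1 = true := by decide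
theorem chk19 : chk 19 1 = true := by decide
theorem chk23 : chk 23 1 = true := by decide
theorem chk25 : chk 25 2 = true := by decide
theorem chk27 : chk 27 3 = true := by decide
theorem chk29 : chk 29 1 = true := by decide
theorem chk31 : chk 31 1 = true := by decide
theorem chk32 : chk 32 5 = true := by decide

theorem chk_all {p f : ℕ} (hp : p.Prime) (hf : 1 ≤ f) (h4 : 4 ≤ p ^ f) (h37 : p ^ f < 37) : chk (p ^ f) f = true := by
  have hf5 : f ≤ 5 := by
    by_contra hcon
    have h1 : 2 ^ 6 ≤ p ^ f := (Nat.pow_le_pow_left hp.two_le 6).trans (Nat.pow_le_pow_right hp.pos (by omega))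
    omega
  have hp37 : p ≤ 36 := by
    have h1 : p ^ 1 ≤ p ^ f := Nat.pow_le_pow_right hp.pos hf
    rw [pow_one] at h1
    omega
  have h2 := hp.two_le
  interval_cases f
  · rw [pow_one] at *
    interval_cases p
    all_goals first
      | (exfalso; revert hp; norm_num; done)
      | decide
  · have hp6 : p ≤ 6 := by nlinarith
    interval_cases p
    all_goals first
      | (exfalso; revert hp; norm_num; done)
      | decide
  · have hp6 : p ≤ 3 := by
      by_contra hcon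
      have : 4 ^ 3 ≤ p ^ 3 := Nat.pow_le_pow_left (by omega) 3
      omega
    interval_cases p
    · exact chk8
    · exact chk27
  · have hp6 : p ≤ 2 := by
      by_contra hcon
      have : 3 ^ 4 ≤ p ^ 4 := Nat.pow_le_pow_left (by omega) 4
      omega
    interval_cases p
    exact chk16
  · have hp6 : p ≤ 2 := by
      by_contra hcon
      have : 3 ^ 5 ≤ p ^ 5 := Nat.pow_le_pow_left (by omega) 5
      omega
    interval_cases p
    exact chk32

section

variable {K : Type} [Field K] [Fintype K]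

theorem card_two {s : ℕ} (hK : Fintype.card K = s) :
    Nat.card (ProjectiveSpecialLinearGroup (Fin 2) K) = s * (s ^ 2 - 1) / Nat.gcd 2 (s - 1) := by
  have h := card_psl hK le_rfl
  rw [Finset.prod_range_one, pow_one] at h
  rw [← h, Nat.mul_div_cancel_left]
  exact Nat.gcd_pos_of_pos_left _ (by norm_num)

theorem card_aut_two {p f : ℕ} (hp : p.Prime) (hf : 1 ≤ f) (hK : Fintype.card K = p ^ f) (h4 : 4 ≤ p ^ f) :
    Nat.card (MulAut (ProjectiveSpecialLinearGroup (Fin 2) K)) = f * (p ^ f * ((p ^ f) ^ 2 - 1)) := by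
  have := Fact.mk hp
  have h1 := Cfsg.Agent.S0813.result (F := K) p f hf hK 2 le_rfl (fun _ => h4)
  rw [if_pos rfl, one_mul, card_pgl hK le_rfl, card_psl hK le_rfl, Finset.prod_range_one, pow_one] at h1
  exact h1

theorem dead_two {p f n : ℕ} (hp : p.Prime) (hf : 1 ≤ f) (hK : Fintype.card K = p ^ f) (h4 : 4 ≤ p ^ f)
    (hn : 13 ≤ n) (hb : (p ^ f - 1) / Nat.gcd 2 (p ^ f - 1) ≤ n) :
    Dead n (ProjectiveSpecialLinearGroup (Fin 2) K) := by
  have := finite_psl (K := K) 2
  by_cases h37 : p ^ f < 37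
  · have h1 := chk_all hp hf h4 h37
    rw [chk, Bool.and_eq_true] at h1
    refine sieve_dead 5 60 60 (card_two hK) (card_aut_two hp hf hK h4) ?_ (by norm_num) (by omega) h1.2 h1.1
      (by omega)
    rw [← card_aut_two hp hf hK h4]
    exact Nat.card_pos
  · refine dead_of_pow (b := 5) (by omega) (five_le (six_dvd_psl le_rfl (fun _ => by rw [hK]; exact h4))) ?_
    rw [card_aut_two hp hf hK h4]
    refine ineq_two (by omega) (sq_le_pow hp.two_le (by omega)) ?_
    refine le_trans ?_ hb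
    refine Nat.div_le_div_left (Nat.gcd_le_left _ (by norm_num)) (Nat.gcd_pos_of_pos_left _ (by norm_num))

theorem card_three {s m N : ℕ} (hK : Fintype.card K = s) (hm : 2 ≤ m) (hs : 2 ≤ s)
    (h : Nat.gcd m (s - 1) * ((s - 1) * N) = ∏ i : Fin m, (s ^ m - s ^ (i : ℕ))) :
    Nat.card (ProjectiveSpecialLinearGroup (Fin m) K) = N := by
  have h1 := S0243.result hK m hm
  rw [← h] at h1
  have h2 := Nat.eq_of_mul_eq_mul_left (Nat.gcd_pos_of_pos_left _ (by omega)) h1
  exact Nat.eq_of_mul_eq_mul_left (by omega) h2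

theorem card_aut_three {p f m N : ℕ} (hp : p.Prime) (hf : 1 ≤ f) (hK : Fintype.card K = p ^ f) (hm : 3 ≤ m)
    (h : Nat.card (ProjectiveSpecialLinearGroup (Fin m) K) = N) :
    Nat.card (MulAut (ProjectiveSpecialLinearGroup (Fin m) K)) = 2 * f * (Nat.gcd m (p ^ f - 1) * N) := by
  have := Fact.mk hp
  have h1 := Cfsg.Agent.S0813.result (F := K) p f hf hK m (by omega) (by omega)
  rwa [if_neg (by omega), card_pgl hK (by omega), h] at h1

/-- the small cases -/
theorem dead_exc {s p f m n n₀ N : ℕ} (hp : p.Prime) (hf : 1 ≤ f) (hs : s = p ^ f) (hs2 : 2 ≤ s)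
    (hK : Fintype.card K = s) (hm : 3 ≤ m)
    (hN : Nat.gcd m (s - 1) * ((s - 1) * N) = ∏ i : Fin m, (s ^ m - s ^ (i : ℕ)))
    (hN0 : 0 < N) (hn₀ : 2 ≤ n₀)
    (h1 : (List.range 5).all (fun q => Nat.ble q 1 || Nat.ble 2 (Nat.gcd q N)) = true)
    (h : loopN N (2 * f * (Nat.gcd m (s - 1) * N)) 5 60 60 n₀ = true) (hn : n₀ ≤ n) :
    Dead n (ProjectiveSpecialLinearGroup (Fin m) K) := by
  have h2 := card_three hK (by omega) hs2 hN
  refine sieve_dead 5 60 60 h2 (A := 2 * f * (Nat.gcd m (s - 1) * N)) ?_ ?_ (by norm_num) hn₀ h1 h hn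
  · rw [hs]
    exact card_aut_three hp hf (by rw [hK, hs]) hm h2
  · have : 0 < Nat.gcd m (s - 1) := Nat.gcd_pos_of_pos_left _ (by omega)
    positivity

theorem f_eq {p f q k : ℕ} (hp : p.Prime) (hq : q.Prime) (hk : k ≠ 0) (h : p ^ f = q ^ k) : f = k := by
  have h1 : q = p := by
    have h2 : q ∣ p ^ f := h ▸ dvd_pow_self q hk
    exact (Nat.prime_dvd_prime_iff_eq hq hp).1 (hq.dvd_of_dvd_pow h2)
  subst h1
  exact Nat.pow_right_injective hq.two_le h

theorem dead_three {p f m n : ℕ} (hp : p.Prime) (hf : 1 ≤ f) (hK : Fintype.card K = p ^ f) (hm : 3 ≤ m)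
    (hn : 13 ≤ n)
    (hb : (m, Fintype.card K) ∉ ({(2, 4), (2, 9), (3, 2), (3, 4), (4, 2)} : Set (ℕ × ℕ)) → (p ^ f) ^ (m - 1) - 1 ≤ n) :
    Dead n (ProjectiveSpecialLinearGroup (Fin m) K) := by
  have := finite_psl (K := K) m
  have hs2 : 2 ≤ p ^ f := by rw [← hK]; exact Fintype.one_lt_card
  by_cases hexc : (m, p ^ f) ∈ ({(3, 2), (3, 3), (3, 4), (4, 2), (5, 2), (6, 2)} : Set (ℕ × ℕ))
  · simp only [Set.mem_insert_iff, Set.mem_singleton_iff, Prod.mk.injEq] at hexc
    rcases hexc with ⟨rfl, h⟩ | ⟨rfl, h⟩ | ⟨rfl, h⟩ | ⟨rfl, h⟩ | ⟨rfl, h⟩ | ⟨rfl, h⟩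
    · have hf1 : f = 1 := f_eq hp (q := 2) (k := 1) Nat.prime_two one_ne_zero (by rw [h]; norm_num)
      subst hf1
      exact dead_exc (n₀ := 13) (N := 168) hp hf h.symm le_rfl (by rw [hK, h]) hm (by simp [Fin.prod_univ_succ])
        (by norm_num) (by norm_num) (by decide) (by decide) hn
    · have hf1 : f = 1 := f_eq hp (q := 3) (k := 1) Nat.prime_three one_ne_zero (by rw [h]; norm_num)
      subst hf1
      exact dead_exc (n₀ := 13) (N := 5616) hp hf h.symm (by norm_num) (by rw [hK, h]) hm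
        (by simp [Fin.prod_univ_succ])
        (by norm_num) (by norm_num) (by decide) (by decide) hn
    · have hf1 : f = 2 := f_eq hp (q := 2) (k := 2) Nat.prime_two two_ne_zero (by rw [h]; norm_num)
      subst hf1
      exact dead_exc (n₀ := 13) (N := 20160) hp hf h.symm (by norm_num) (by rw [hK, h]) hm
        (by simp [Fin.prod_univ_succ])
        (by norm_num) (by norm_num) (by decide) (by decide) hn
    · have hf1 : f = 1 := f_eq hp (q := 2) (k := 1) Nat.prime_two one_ne_zero (by rw [h]; norm_num)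
      subst hf1
      exact dead_exc (n₀ := 13) (N := 20160) hp hf h.symm (by norm_num) (by rw [hK, h]) hm
        (by simp [Fin.prod_univ_succ])
        (by norm_num) (by norm_num) (by decide) (by decide) hn
    · have hf1 : f = 1 := f_eq hp (q := 2) (k := 1) Nat.prime_two one_ne_zero (by rw [h]; norm_num)
      subst hf1
      have hn15 := hb (by rw [hK, h]; simp)
      rw [h] at hn15
      exact dead_exc (n₀ := 15) (N := 9999360) hp hf h.symm (by norm_num) (by rw [hK, h]) hm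
        (by simp [Fin.prod_univ_succ])
        (by norm_num) (by norm_num) (by decide) (by decide) hn15
    · have hf1 : f = 1 := f_eq hp (q := 2) (k := 1) Nat.prime_two one_ne_zero (by rw [h]; norm_num)
      subst hf1
      have hn15 := hb (by rw [hK, h]; simp)
      rw [h] at hn15
      exact dead_exc (n₀ := 31) (N := 20158709760) hp hf h.symm (by norm_num) (by rw [hK, h]) hm
        (by simp [Fin.prod_univ_succ])
        (by norm_num) (by norm_num) (by decide) (by decide) hn15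
  · refine dead_of_pow (b := 5) (by omega) (five_le (six_dvd_psl (by omega) (fun h => by omega))) ?_
    refine ineq_three hs2 hm (two_mul_le_pow hp.two_le hf) hexc ?_ (hb ?_)
    · have := Fact.mk hp
      have h1 := Cfsg.Agent.S0813.result (F := K) p f hf hK m (by omega) (by omega)
      rw [if_neg (by omega)] at h1
      rw [h1]
      refine Nat.mul_le_mul_left _ ?_
      rw [← hK]
      exact card_pgl_le K (by omega)
    · rw [hK]
      simp only [Set.mem_insert_iff, Set.mem_singleton_iff, Prod.mk.injEq, not_or] at hexc ⊢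
      omega

end

/-! ### The theorem -/

theorem exists_pf (K : Type) [Field K] [Fintype K] :
    ∃ p f : ℕ, p.Prime ∧ 1 ≤ f ∧ Fintype.card K = p ^ f ∧ CharP K p := by
  obtain ⟨n, hp, h⟩ := FiniteField.card K (ringChar K)
  exact ⟨ringChar K, n, hp, n.pos, h, inferInstance⟩

/-- **`PSL`**, degree at least `13` -/
theorem dead_psl {F : Type u} [Field F] [Finite F] {n p : ℕ} [Fact p.Prime] [CharP F p]
    {P : Subgroup (Matrix.GeneralLinearGroup (Fin n) F)} (hC : Core P) (hn : 13 ≤ n) (hp : ¬ p ∣ Nat.card (Soc P))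
    (hT : Cfsg.IsPSL (Soc P)) : Dead n (Soc P) := by
  obtain ⟨K, _, _, m, hm, hm2, ⟨e⟩⟩ := hT
  obtain ⟨r, f, hr, hf, hK, hch⟩ := exists_pf K
  refine Dead.congr e.symm ?_
  have hcard : Nat.card (Soc P) = Nat.card (ProjectiveSpecialLinearGroup (Fin m) K) := Nat.card_congr e.toEquiv
  have hrd : r ∣ Nat.card (Soc P) := by
    rw [hcard, card_psl_split hK hm]
    refine Dvd.dvd.mul_right (dvd_pow (dvd_pow_self r (by omega)) ?_) _
    have : 2 * 1 ≤ m * (m - 1) := Nat.mul_le_mul hm (by omega)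
    omega
  have hrF : (r : F) ≠ 0 := by
    intro h0
    have h1 := (Nat.prime_dvd_prime_iff_eq (Fact.out : p.Prime) hr).1 ((CharP.cast_eq_zero_iff F p r).1 h0)
    exact hp (h1 ▸ hrd)
  have hPR : (m, Fintype.card K) ∉ ({(2, 4), (2, 9), (3, 2), (3, 4), (4, 2)} : Set (ℕ × ℕ)) → PR F n r (Soc P) := by
    intro hexc
    have hd : r ∣ Fintype.card K := hK ▸ dvd_pow_self r (by omega)
    refine PR.of_noR ((NoR.of_cyclic (S2086.result (F := K) rfl m hm hm2 hexc)
      (coprime_gcd_sub hr Fintype.card_pos hd)).congr e) P hC.perfect (MulEquiv.refl _)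
  by_cases h2 : m = 2
  · subst h2
    refine dead_two hr hf hK (hK ▸ hm2 rfl) hn ?_
    rw [← hK]
    by_cases hexc : (2, Fintype.card K) ∈ ({(2, 4), (2, 9), (3, 2), (3, 4), (4, 2)} : Set (ℕ × ℕ))
    · have h3 : Fintype.card K = 4 ∨ Fintype.card K = 9 := by
        simpa using hexc
      rcases h3 with h3 | h3 <;> rw [h3] <;> norm_num <;> omega
    · refine H203.BdSL2.bd_of_sl2 hr rfl hrF (e.symm.toMonoidHom.comp (QuotientGroup.mk' _)) ?_ n (hPR hexc)
      intro x hx
      have h1 : e.symm (QuotientGroup.mk' _ x) = 1 := hx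
      rw [MulEquiv.map_eq_one_iff, QuotientGroup.mk'_apply, QuotientGroup.eq_one_iff] at h1
      exact h1
  · refine dead_three hr hf hK (by omega) hn fun hexc => ?_
    rw [← hK]
    exact (bd_psl (F := F) hr hrF (by omega) inferInstance).congr e n (hPR hexc)

end Cfsg.Agent.H348.HT
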